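import Groth.Agent.CmpCritLib.Induction

/-!
# The comparison criterion with coefficients in all finite cyclic groups
-/

set_option autoImplicit false
set_option linter.style.haveILetI false
set_option linter.unusedSectionVars false
set_option backward.isDefEq.respectTransparency false
set_option backward.isDefEq.respectTransparency.types false
set_option maxHeartbeats 1000000
set_option synthInstance.maxHeartbeats 400000

universe u

open CategoryTheory CategoryTheory.Limits AlgebraicGeometry Opposite CategoryTheory.Abelian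
open Groth.Agent.CompBCLib
open Groth.Agent.CmpCritLib (map_comp_apply map_zero_hom map_mono_zero injective_zero_of_mono surjective_of_iso
  surjective_biproduct injective_biproduct cmp_push injective_of_sys surjective_of_sys sysHyp_killed exists_acyclic)
open scoped DirectSum

attribute [local instance] Groth.Agent.S0101.result

noncomputable section

namespace Groth.Agent.CmpAllLib

variable {X Y : Scheme.{u}} [CompactSpace X] [QuasiSeparatedSpace X]

/-- The sheaves used for comparison: finite products of direct images of `ℤ/e` along finite morphisms. -/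
def Basic (G : EtCoh.Ab X) : Prop :=
  ∃ (J : Type) (_ : Finite J) (Z : J → Scheme.{u}) (f : ∀ j, Z j ⟶ X) (_ : ∀ j, IsFinite (f j)) (e : J → ℕ)
    (_ : ∀ j, 0 < e j), Nonempty (G ≅ ⨁ fun j => (EtCoh.push (f j)).obj (EtCoh.const (Z j) (ZMod (e j))))

/-- Constructible sheaves embed into the basic ones. -/
theorem exists_mono_basic {F : EtCoh.Ab X} (hF : EtPBC.IsConstructible F) :
    ∃ (G : EtCoh.Ab X) (ι : F ⟶ G), Mono ι ∧ Basic G := by
  classical
  obtain ⟨m, Y, f, hf, -, M, iM, fM, ι, hι⟩ := EmbedFinLib.exists_mono_finite_qcqs hF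
  haveI := hι
  letI := iM
  haveI := fM
  have hdec := fun i => AddCommGroup.equiv_directSum_zmod_of_finite (M i)
  choose κ hκ p hp e he using hdec
  let J := Σ i, κ i
  haveI := hκ
  haveI : Finite J := inferInstance
  let cc : ∀ (i : Fin m) (a : κ i), (M i →+ ZMod (p i a ^ e i a)) := fun i a =>
    (DFinsupp.evalAddMonoidHom a).comp (he i).some.toAddMonoidHom
  let ψ : ∀ (i : Fin m) (a : κ i), (EtCoh.push (f i)).obj (EtCoh.const (Y i) (M i)) ⟶
      (EtCoh.push (f i)).obj (EtCoh.const (Y i) (ZMod (p i a ^ e i a))) := fun i a =>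
    (EtCoh.push (f i)).map ((constantSheaf (Y i).smallEtaleTopology AddCommGrpCat.{u + 1}).map
      (AddCommGrpCat.ofHom ((AddEquiv.ulift.symm.toAddMonoidHom).comp ((cc i a).comp AddEquiv.ulift.toAddMonoidHom))))
  have hjoint : ∀ (i : Fin m) {W : EtCoh.Ab X} (k : W ⟶ (EtCoh.push (f i)).obj (EtCoh.const (Y i) (M i))),
      (∀ a, k ≫ ψ i a = 0) → k = 0 := fun i W k hk => by
    haveI := hκ i
    haveI : (EtCoh.push (f i)).Additive := (EtCoh.pullPushAdj (f i)).right_adjoint_additive
    haveI : (constantSheaf (Y i).smallEtaleTopology AddCommGrpCat.{u + 1}).Additive :=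
      (constantSheafAdj (Y i).smallEtaleTopology AddCommGrpCat.{u + 1} (MorphismProperty.Over.mkIdTerminal _ (Y i))).left_adjoint_additive
    let σ : ∀ a : κ i, ZMod (p i a ^ e i a) →+ M i := fun a =>
      (he i).some.symm.toAddMonoidHom.comp (DirectSum.of (fun a => ZMod (p i a ^ e i a)) a)
    have hsum : 𝟙 (AddCommGrpCat.of (ULift.{u + 1} (M i))) =
        ∑ a : κ i, AddCommGrpCat.ofHom ((AddEquiv.ulift.symm.toAddMonoidHom).comp ((cc i a).comp AddEquiv.ulift.toAddMonoidHom)) ≫
          AddCommGrpCat.ofHom ((AddEquiv.ulift.symm.toAddMonoidHom).comp ((σ a).comp AddEquiv.ulift.toAddMonoidHom)) := by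
      refine AddCommGrpCat.hom_ext (AddMonoidHom.ext fun ⟨x⟩ => ?_)
      refine Eq.trans ?_ (map_sum (AddMonoidHom.mk'
        (fun t : AddCommGrpCat.of (ULift.{u + 1} (M i)) ⟶ AddCommGrpCat.of (ULift.{u + 1} (M i)) => t.hom ⟨x⟩)
        fun _ _ => rfl) _ Finset.univ).symm
      apply AddEquiv.ulift.injective
      rw [map_sum]
      simp only [cc, σ, AddCommGrpCat.hom_comp, AddCommGrpCat.hom_id, AddMonoidHom.comp_apply, AddCommGrpCat.hom_ofHom,
        AddEquiv.coe_toAddMonoidHom, AddEquiv.apply_symm_apply, AddMonoidHom.id_apply]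
      show x = _
      conv_lhs => rw [← (he i).some.symm_apply_apply x, ← DirectSum.sum_univ_of ((he i).some x)]
      rw [map_sum]
      rfl
    have h1 := congrArg (fun t => k ≫ (EtCoh.push (f i)).map
      ((constantSheaf (Y i).smallEtaleTopology AddCommGrpCat.{u + 1}).map t)) hsum
    simp only [Functor.map_sum, Functor.map_comp, Preadditive.comp_sum] at h1
    rw [CategoryTheory.Functor.map_id, CategoryTheory.Functor.map_id, Category.comp_id] at h1
    rw [h1]
    refine Finset.sum_eq_zero fun a _ => ?_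
    rw [← Category.assoc]
    exact (congrArg (· ≫ _) (hk a)).trans zero_comp
  let G := ⨁ fun j : J => (EtCoh.push (f j.1)).obj (EtCoh.const (Y j.1) (ZMod (p j.1 j.2 ^ e j.1 j.2)))
  let lf : F ⟶ G := biproduct.lift fun j : J => ι ≫ biproduct.π _ j.1 ≫ ψ j.1 j.2
  refine ⟨G, lf, Preadditive.mono_of_cancel_zero _ fun {W} k hk => ?_, J, inferInstance, fun j => Y j.1, fun j => f j.1,
    fun j => hf j.1, fun j => p j.1 j.2 ^ e j.1 j.2, fun j => pow_pos (hp j.1 j.2).pos _, ⟨Iso.refl _⟩⟩
  refine (cancel_mono ι).1 (Eq.trans ?_ zero_comp.symm)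
  refine biproduct.hom_ext _ _ fun i => ?_
  rw [zero_comp, Category.assoc]
  refine hjoint i _ fun a => ?_
  rw [Category.assoc, Category.assoc]
  have h2 := congrArg (· ≫ biproduct.π _ (⟨i, a⟩ : J)) hk
  simp only [zero_comp, Category.assoc, lf, biproduct.lift_π] at h2
  exact h2

omit [CompactSpace X] [QuasiSeparatedSpace X] in
theorem killedBy_basic {G : EtCoh.Ab X} (hG : Basic G) : ∃ N, 0 < N ∧ EtCoh.KilledBy N G := by
  classical
  obtain ⟨J, _, Z, f, -, e, he, ⟨ε⟩⟩ := hG
  haveI := Fintype.ofFinite J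
  refine ⟨∏ j, e j, Finset.prod_pos fun j _ => he j, (FLCLib.killedBy_iff _ _).2 ?_⟩
  have h : ∀ j, (∏ i, e i) • 𝟙 ((EtCoh.push (f j)).obj (EtCoh.const (Z j) (ZMod (e j)))) = 0 := fun j =>
    (FLCLib.killedBy_iff _ _).1 (CmpCritLib.killed_mono (Finset.dvd_prod_of_mem _ (Finset.mem_univ j))
      (CompBCLib.killedBy_push (f j) (PBCLib.killedBy_const (Z j) _)))
  rw [← cancel_mono ε.hom]
  refine biproduct.hom_ext _ _ fun j => ?_
  rw [zero_comp, zero_comp, Preadditive.nsmul_comp, Preadditive.nsmul_comp, Category.id_comp,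
    ← Category.comp_id (ε.hom ≫ biproduct.π _ j), ← Preadditive.comp_nsmul, h, comp_zero]

variable (h : Y ⟶ X) [PreservesFiniteLimits (EtCoh.pull h)] [CompactSpace Y] [QuasiSeparatedSpace Y] {n : ℕ}
  (hb : ∀ (X' : Scheme.{u}) (p : X' ⟶ X) [IsFinite p] (ν : ℕ),
    Function.Injective (EtCore.Hpull (pullback.fst p h) (EtCoh.const X' (ZMod ν)) 0) ∧
      ∀ i ≤ n, Function.Surjective (EtCore.Hpull (pullback.fst p h) (EtCoh.const X' (ZMod ν)) i))

include hb

theorem basic_facts {G : EtCoh.Ab X} (hG : Basic G) :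
    Function.Injective (EtCore.Hpull h G 0) ∧ ∀ i ≤ n, Function.Surjective (EtCore.Hpull h G i) := by
  obtain ⟨J, _, Z, f, hf, e, -, ⟨ε⟩⟩ := hG
  haveI := hf
  refine ⟨injective_zero_of_mono h ε.hom (injective_biproduct h _ 0 fun j => (cmp_push h (f j) _ 0).1 (hb _ (f j) _).1),
    fun i hi => surjective_of_iso h ε i (surjective_biproduct h _ i fun j => (cmp_push h (f j) _ i).2 ((hb _ (f j) _).2 i hi))⟩

theorem cmp_killed (i : ℕ) :
    (i ≤ n → ∀ (ν : ℕ), 0 < ν → ∀ (F : EtCoh.Ab X), EtCoh.KilledBy ν F → Function.Bijective (EtCore.Hpull h F i)) ∧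
      (i ≤ n + 1 → ∀ (ν : ℕ), 0 < ν → ∀ (F : EtCoh.Ab X), EtCoh.KilledBy ν F → Function.Injective (EtCore.Hpull h F i)) := by
  have htors : ∀ {ν : ℕ}, 0 < ν → ∀ {F : EtCoh.Ab X}, EtCoh.KilledBy ν F → EtCoh.IsTorsion F := fun hν _ hF =>
    PBCLib.isTorsion_of_killedBy' hν hF
  induction i with
  | zero =>
    have hinj : ∀ (ν : ℕ), 0 < ν → ∀ (F : EtCoh.Ab X), EtCoh.KilledBy ν F → Function.Injective (EtCore.Hpull h F 0) :=
      fun ν hν F hF => injective_of_sys h (sysHyp_killed _ hF) (htors hν hF) 0 fun E hE => by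
        obtain ⟨G, ι, hι, hG⟩ := exists_mono_basic hE.1
        haveI := hι
        exact injective_zero_of_mono h ι (basic_facts h hb hG).1
    refine ⟨fun hn ν hν F hF => ⟨hinj ν hν F hF, surjective_of_sys h (sysHyp_killed _ hF) (htors hν hF) 0 fun E hE => ?_⟩,
      fun _ => hinj⟩
    obtain ⟨G, ι, hι, hG⟩ := exists_mono_basic hE.1
    haveI := hι
    obtain ⟨μ, hμ0, hμ⟩ := killedBy_basic hG
    let S := ShortComplex.mk ι (cokernel.π ι) (cokernel.condition ι)
    have hS : S.ShortExact := { exact := ShortComplex.exact_cokernel ι }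
    have hC : Function.Injective (EtCore.Hpull h S.X₃ 0) :=
      hinj μ hμ0 _ (BCVertLib.killedBy_of_epi (cokernel.π ι) hμ)
    intro y
    obtain ⟨g, hg⟩ := (basic_facts h hb hG).2 0 hn (Sheaf.H.map ((EtCoh.pull h).map ι) 0 y)
    have hge : Sheaf.H.map (cokernel.π ι) 0 g = 0 := hC (by
      rw [Hpull_map h (cokernel.π ι) g, hg, ← map_comp_apply, ← Functor.map_comp, cokernel.condition,
        Functor.map_zero, map_zero_hom, map_zero])
    obtain ⟨x, rfl⟩ := Ext.covariant_sequence_exact₂ _ hS g hge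
    refine ⟨x, map_mono_zero ((EtCoh.pull h).map ι) ?_⟩
    rw [← Hpull_map h ι x]
    exact hg
  | succ i ih =>
    obtain ⟨ihb, ihi⟩ := ih
    have hinj : i + 1 ≤ n + 1 → ∀ (ν : ℕ), 0 < ν → ∀ (F : EtCoh.Ab X), EtCoh.KilledBy ν F →
        Function.Injective (EtCore.Hpull h F (i + 1)) := fun hi ν hν F hF => by
      obtain ⟨T, a, ha, hT, hvan⟩ := exists_acyclic hν hF
      haveI := ha
      let S := ShortComplex.mk a (cokernel.π a) (cokernel.condition a)
      have hS : S.ShortExact := { exact := ShortComplex.exact_cokernel a }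
      have hC : EtCoh.KilledBy ν S.X₃ := BCVertLib.killedBy_of_epi (cokernel.π a) hT
      exact injective_succ h (n := i) hS le_rfl
        ⟨fun _ => ihb (by omega) ν hν _ hT, fun _ => (ihb (by omega) ν hν _ hT).1⟩
        ⟨fun _ => ihb (by omega) ν hν _ hC, fun _ => (ihb (by omega) ν hν _ hC).1⟩
        ⟨fun hle => absurd hle (by omega), fun _ x y _ => (hvan i).elim _ _⟩
    refine ⟨fun hi ν hν F hF => ⟨hinj (by omega) ν hν F hF, surjective_of_sys h (sysHyp_killed _ hF) (htors hν hF) (i + 1)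
      fun E hE => ?_⟩, hinj⟩
    obtain ⟨G, ι, hι, hG⟩ := exists_mono_basic hE.1
    haveI := hι
    obtain ⟨μ, hμ0, hμ⟩ := killedBy_basic hG
    let S := ShortComplex.mk ι (cokernel.π ι) (cokernel.condition ι)
    have hS : S.ShortExact := { exact := ShortComplex.exact_cokernel ι }
    have hC : EtCoh.KilledBy μ S.X₃ := BCVertLib.killedBy_of_epi (cokernel.π ι) hμ
    have hG' : Function.Bijective (EtCore.Hpull h G (i + 1)) :=
      ⟨hinj (by omega) μ hμ0 G hμ, (basic_facts h hb hG).2 (i + 1) hi⟩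
    exact surjective_succ h (n := n) hS hi ⟨fun _ => ihb (by omega) μ hμ0 _ hC, fun _ => (ihb (by omega) μ hμ0 _ hC).1⟩
      ⟨fun _ => hG', fun _ => hG'.1⟩ (hinj (by omega) μ hμ0 _ hC)

/-- The comparison for torsion sheaves. -/
theorem cmp_torsion {F : EtCoh.Ab X} (hF : EtCoh.IsTorsion F) {i : ℕ} (hi : i ≤ n) :
    Function.Bijective (EtCore.Hpull h F i) := by
  have hs : FLCLib.SysHyp (fun E => EtPBC.IsConstructible E) F :=
    ⟨fun E hE => hE, fun e hE => FLCLib.isConstructible_of_iso e hE, fun E hE g => ⟨E, hE, 𝟙 E, g, Category.id_comp g⟩⟩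
  refine ⟨injective_of_sys h hs hF i fun E hE => ?_, surjective_of_sys h hs hF i fun E hE => ?_⟩
  · obtain ⟨ν, hν, hEν⟩ := FLCLib.exists_killedBy hE
    exact ((cmp_killed h hb i).1 hi ν hν E hEν).1
  · obtain ⟨ν, hν, hEν⟩ := FLCLib.exists_killedBy hE
    exact ((cmp_killed h hb i).1 hi ν hν E hEν).2

end Groth.Agent.CmpAllLib
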